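import Cfsg.Agent.Chars.Induced.Gallagher
import Cfsg.Agent.Chars.Induced.Extension

/-!
# Coset averages over an extension, full ramification
-/

noncomputable section

open scoped ComplexConjugate

namespace CfsgLib.Chars.Induced

open Cfsg

universe u

variable {G : Type u} [Group G] [Fintype G] {N : Subgroup G} [N.Normal] [Fintype N]

/-- The average of a function over a coset, as a function on the quotient. -/
def cosetAvg (N : Subgroup G) [N.Normal] (F : G → ℂ) : G ⧸ N → ℂ :=
  open Classical in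
  fun x => (Nat.card N : ℂ)⁻¹ * ∑ g ∈ Finset.univ.filter (fun g : G => (g : G ⧸ N) = x), F g

theorem cosetAvg_mk (F : G → ℂ) (g : G) :
    cosetAvg N F (g : G ⧸ N) = (Nat.card N : ℂ)⁻¹ * ∑ n : N, F ((n : G) * g) := by
  classical
  rw [cosetAvg]
  congr 1
  symm
  refine Finset.sum_bij (fun (n : N) _ => (n : G) * g) (fun n _ => ?_) (fun a _ b _ h => ?_)
    (fun y hy => ?_) (fun _ _ => rfl)
  · simp
  · exact Subtype.ext (mul_right_cancel h)
  · have hy' : (y : G ⧸ N) = g := (Finset.mem_filter.1 hy).2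
    refine ⟨⟨y * g⁻¹, ?_⟩, Finset.mem_univ _, by simp⟩
    rw [← QuotientGroup.eq_one_iff, QuotientGroup.mk_mul, QuotientGroup.mk_inv, hy', mul_inv_cancel]

theorem cosetAvg_isClassFunction {F : G → ℂ} (hF : IsClassFunction G F) :
    IsClassFunction (G ⧸ N) (cosetAvg N F) := by
  intro x y
  obtain ⟨g, rfl⟩ := QuotientGroup.mk_surjective x
  obtain ⟨h, rfl⟩ := QuotientGroup.mk_surjective y
  rw [← QuotientGroup.mk_inv, ← QuotientGroup.mk_mul, ← QuotientGroup.mk_mul, cosetAvg_mk,
    cosetAvg_mk]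
  congr 1
  refine Fintype.sum_equiv ((MulAut.conjNormal h⁻¹ : MulAut N)).toEquiv _ _ fun n => ?_
  show F ((n : G) * (h * g * h⁻¹)) = F (((MulAut.conjNormal h⁻¹ n : N) : G) * g)
  rw [MulAut.conjNormal_apply, inv_inv, ← hF (h⁻¹ * (n : G) * h * g) h]
  congr 1
  group

omit [Fintype N] in
/-- Inner products of coset averages. -/
theorem classInner_cosetAvg [Fintype (G ⧸ N)] (F : G → ℂ) (c : G ⧸ N → ℂ) :
    classInner (cosetAvg N F) c = classInner F (fun g => c (g : G ⧸ N)) := by
  classical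
  simp only [classInner, cosetAvg, mul_assoc, Finset.sum_mul]
  rw [← Finset.mul_sum, ← mul_assoc]
  congr 1
  · rw [← mul_inv, ← Nat.cast_mul, ← N.index_eq_card, N.index_mul_card]
  · rw [← Finset.sum_fiberwise (s := Finset.univ) (g := fun g : G => (g : G ⧸ N))]
    exact Finset.sum_congr rfl fun x _ => Finset.sum_congr rfl fun g hg => by
      rw [(Finset.mem_filter.1 hg).2]

/-- Over an extension, the average of the squared absolute value on each coset is one. -/
theorem avg_norm_sq (χ : IrrCharacter G) (θ : IrrCharacter N)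
    (h : ∀ n : N, (χ : G → ℂ) n = (θ : N → ℂ) n) (g : G) :
    (Nat.card N : ℂ)⁻¹ * ∑ n : N, (χ : G → ℂ) ((n : G) * g) * conj ((χ : G → ℂ) ((n : G) * g)) =
      1 := by
  classical
  have : Fintype (G ⧸ N) := Fintype.ofFinite _
  have hcf : IsClassFunction G (fun y => (χ : G → ℂ) y * conj ((χ : G → ℂ) y)) := fun a b => by
    simp only [CfsgLib.Chars.isClassFunction_coe χ a b]
  have h1 := cosetAvg_mk (N := N) (fun y => (χ : G → ℂ) y * conj ((χ : G → ℂ) y)) g
  rw [← h1]
  suffices heq : cosetAvg N (fun y => (χ : G → ℂ) y * conj ((χ : G → ℂ) y)) =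
      (oneChar (G ⧸ N) : G ⧸ N → ℂ) by rw [heq, oneChar_apply]
  refine eq_of_classInner_eq (cosetAvg_isClassFunction hcf)
    (CfsgLib.Chars.isClassFunction_coe _) fun β => ?_
  rw [classInner_cosetAvg, CfsgLib.Chars.classInner_irr, ← gallagher_inner χ θ h (oneChar (G ⧸ N)) β]
  simp only [classInner, oneChar_apply, mul_one, map_mul]
  congr 1
  exact Finset.sum_congr rfl fun y _ => by ring

/-- The average against an extension of a product with that extension. -/
theorem avg_mul_conj_eq_mul (χ : IrrCharacter G) (θ : IrrCharacter N)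
    (h : ∀ n : N, (χ : G → ℂ) n = (θ : N → ℂ) n) (β : IrrCharacter (G ⧸ N)) (ψ : G → ℂ)
    (hψ : ψ = fun y => (χ : G → ℂ) y * (β : G ⧸ N → ℂ) (y : G ⧸ N)) (g : G) :
    (Nat.card N : ℂ)⁻¹ * ∑ n : N, ψ ((n : G) * g) * conj ((χ : G → ℂ) ((n : G) * g)) =
      (β : G ⧸ N → ℂ) (g : G ⧸ N) := by
  have hn : ∀ n : N, (((n : G) * g : G) : G ⧸ N) = g := fun n => by
    rw [QuotientGroup.mk_mul, (QuotientGroup.eq_one_iff (n : G)).2 n.2, one_mul]
  subst hψ
  simp only [hn, mul_right_comm _ ((β : G ⧸ N → ℂ) (g : G ⧸ N)), ← Finset.sum_mul, ← mul_assoc]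
  rw [avg_norm_sq χ θ h g, one_mul]

/-- The average against an extension of a character not over the restriction vanishes. -/
theorem avg_mul_conj_eq_zero (χ : IrrCharacter G) (θ : IrrCharacter N)
    (h : ∀ n : N, (χ : G → ℂ) n = (θ : N → ℂ) n) (ψ : IrrCharacter G)
    (hψ : ¬ mult (fun n : N => (ψ : G → ℂ) n) θ ≠ 0) (g : G) :
    (Nat.card N : ℂ)⁻¹ * ∑ n : N, (ψ : G → ℂ) ((n : G) * g) * conj ((χ : G → ℂ) ((n : G) * g)) =
      0 := by
  classical
  have : Fintype (G ⧸ N) := Fintype.ofFinite _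
  have hcf : IsClassFunction G (fun y => (ψ : G → ℂ) y * conj ((χ : G → ℂ) y)) := fun a b => by
    simp only [CfsgLib.Chars.isClassFunction_coe χ a b, CfsgLib.Chars.isClassFunction_coe ψ a b]
  have h1 := cosetAvg_mk (N := N) (fun y => (ψ : G → ℂ) y * conj ((χ : G → ℂ) y)) g
  rw [← h1]
  suffices heq : cosetAvg N (fun y => (ψ : G → ℂ) y * conj ((χ : G → ℂ) y)) = 0 by
    rw [heq, Pi.zero_apply]
  refine eq_zero_of_classInner_eq_zero (cosetAvg_isClassFunction hcf) fun β => ?_
  rw [classInner_cosetAvg]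
  have hne : ψ ≠ ⟨_, gallagher_isIrrCharacter χ θ h β⟩ := fun he => hψ <| by
    rw [mult_ne_zero_iff (CfsgLib.Chars.isCharacter_restrict (CfsgLib.Chars.isCharacter_coe ψ) N)]
    rw [show (fun n : N => (ψ : G → ℂ) n) = (β : G ⧸ N → ℂ) 1 • (θ : N → ℂ) by
      funext n
      rw [Pi.smul_apply, smul_eq_mul, ← h n, ← gallagher_restrict (χ : G → ℂ) β n, he]]
    rw [classInner_smul_left, classInner_irr_self, mul_one]
    exact CfsgLib.Chars.map_one_ne_zero β
  rw [← classInner_of_ne hne]
  simp only [classInner, map_mul]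
  congr 1
  exact Finset.sum_congr rfl fun y _ => by ring

/-- The norm of a restriction, through Clifford's theorem, in the invariant case. -/
theorem restrict_eq_of_invariant (χ : IrrCharacter G) (θ : IrrCharacter N)
    (hinv : ∀ g : G, conjFun N g (θ : N → ℂ) = θ)
    (hχ : mult (fun n : N => (χ : G → ℂ) n) θ ≠ 0) :
    (fun n : N => (χ : G → ℂ) n) = (mult (fun n : N => (χ : G → ℂ) n) θ : ℂ) • (θ : N → ℂ) := by
  have hsingle : (Set.finite_range fun x : G => conjIrr x θ).toFinset = {θ} := by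
    ext η
    simp only [Set.Finite.mem_toFinset, Set.mem_range, Finset.mem_singleton]
    exact ⟨fun ⟨x, hx⟩ => hx ▸ Subtype.ext (hinv x), fun h => ⟨1, (conjIrr_one θ).trans h.symm⟩⟩
  have h := clifford χ θ hχ
  rwa [hsingle, Finset.sum_singleton] at h

/-- The squared multiplicities over an invariant character sum to the index. -/
theorem sum_mult_sq_of_invariant (θ : IrrCharacter N)
    (hinv : ∀ g : G, conjFun N g (θ : N → ℂ) = θ) :
    ∑ ψ : IrrCharacter G, mult (fun n : N => (ψ : G → ℂ) n) θ ^ 2 = N.index := by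
  apply Nat.cast_injective (R := ℂ)
  have hΦ := isCharacter_indFun N (CfsgLib.Chars.isCharacter_coe θ)
  have h := classInner_indFun_irr_self (N := N) θ
  rw [show inertia N (θ : N → ℂ) = ⊤ from eq_top_iff.2 fun x _ => hinv x, Subgroup.card_top,
    ← N.card_mul_index, Nat.cast_mul, mul_div_cancel_left₀ _ (card_subgroup_ne_zero N),
    classInner_eq_sum (indFun_isClassFunction N _)] at h
  rw [← h, Nat.cast_sum]
  refine Finset.sum_congr rfl fun ψ _ => ?_
  rw [classInner_eq_mult hΦ, mult_indFun_irr, map_natCast]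
  push_cast
  ring

/-- Criteria for full ramification. -/
theorem fully_ramified_iff (χ : IrrCharacter G) (θ : IrrCharacter N)
    (hχ : mult (fun n : N => (χ : G → ℂ) n) θ ≠ 0) :
    ((∃ e : ℕ, (fun n : N => (χ : G → ℂ) n) = (e : ℂ) • (θ : N → ℂ) ∧ e ^ 2 = N.index) ↔
      ((∀ g : G, g ∉ N → (χ : G → ℂ) g = 0) ∧ ∀ g : G, conjFun N g (θ : N → ℂ) = θ)) ∧
    ((∃ e : ℕ, (fun n : N => (χ : G → ℂ) n) = (e : ℂ) • (θ : N → ℂ) ∧ e ^ 2 = N.index) ↔
      ((∀ g : G, conjFun N g (θ : N → ℂ) = θ) ∧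
        ∀ ψ : IrrCharacter G, mult (fun n : N => (ψ : G → ℂ) n) θ ≠ 0 → ψ = χ)) := by
  classical
  set m := mult (fun n : N => (χ : G → ℂ) n) θ with hm
  have hcl := CfsgLib.Chars.isClassFunction_coe χ
  have hInv : ∀ e : ℕ, (fun n : N => (χ : G → ℂ) n) = (e : ℂ) • (θ : N → ℂ) →
      e = m ∧ ∀ g : G, conjFun N g (θ : N → ℂ) = θ := by
    intro e he
    have hem : e = m := by
      apply Nat.cast_injective (R := ℂ)
      rw [hm, ← classInner_eq_mult
        (CfsgLib.Chars.isCharacter_restrict (CfsgLib.Chars.isCharacter_coe χ) N),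
        he, classInner_smul_left, classInner_irr_self, mul_one]
    refine ⟨hem, fun g => ?_⟩
    funext n
    have h1 := congrFun (conjFun_restrict (N := N) hcl g) n
    simp only [he] at h1
    rw [show (χ : G → ℂ) n = ((e : ℂ) • (θ : N → ℂ)) n from congrFun he n] at h1
    simp only [conjFun, Pi.smul_apply, smul_eq_mul] at h1 ⊢
    exact mul_left_cancel₀ (Nat.cast_ne_zero.2 (hem ▸ hχ)) h1
  have hnorm : ∑ g : G, (χ : G → ℂ) g * conj ((χ : G → ℂ) g) = Nat.card G := by
    have h1 := CfsgLib.Chars.sum_mul_map_inv χ χ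
    rw [if_pos rfl] at h1
    simp only [conj_eq_map_inv (CfsgLib.Chars.isCharacter_coe χ)]
    exact h1
  have hsplit : ∀ _hinv : ∀ g : G, conjFun N g (θ : N → ℂ) = θ,
      ∑ g ∈ Finset.univ.filter (fun g : G => g ∈ N), (χ : G → ℂ) g * conj ((χ : G → ℂ) g) =
        (m : ℂ) ^ 2 * Nat.card N := by
    intro hinv
    have hres := restrict_eq_of_invariant χ θ hinv hχ
    have h1 := classInner_irr_self θ
    rw [classInner, inv_mul_eq_one₀ (card_subgroup_ne_zero N)] at h1
    rw [Finset.sum_subtype (Finset.univ.filter fun g : G => g ∈ N) (p := (· ∈ N))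
      (F := ‹Fintype N›) (fun x => by simp), h1, Finset.mul_sum]
    refine Finset.sum_congr rfl fun n _ => ?_
    have h2 := congrFun hres n
    simp only [Pi.smul_apply, smul_eq_mul, ← hm] at h2
    rw [h2, map_mul, map_natCast]
    ring
  have hA : (∃ e : ℕ, (fun n : N => (χ : G → ℂ) n) = (e : ℂ) • (θ : N → ℂ) ∧ e ^ 2 = N.index) ↔
      ((∀ g : G, conjFun N g (θ : N → ℂ) = θ) ∧ m ^ 2 = N.index) := by
    constructor
    · rintro ⟨e, he, he2⟩
      obtain ⟨rfl, hinv⟩ := hInv e he
      exact ⟨hinv, he2⟩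
    · rintro ⟨hinv, h2⟩
      exact ⟨m, restrict_eq_of_invariant χ θ hinv hχ, h2⟩
  constructor
  · rw [hA, and_comm]
    refine and_congr_left fun hinv => ?_
    have h1 := Finset.sum_filter_add_sum_filter_not Finset.univ (fun g : G => g ∈ N)
      (fun g : G => (χ : G → ℂ) g * conj ((χ : G → ℂ) g))
    rw [hsplit hinv, hnorm, ← N.index_mul_card, Nat.cast_mul] at h1
    constructor
    · intro h2 g hg
      have h3 : ∑ y ∈ Finset.univ.filter (fun y : G => y ∉ N),
          ((Complex.normSq ((χ : G → ℂ) y) : ℝ) : ℂ) = 0 := by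
        simp only [← Complex.mul_conj]
        rw [← h2] at h1
        push_cast at h1
        linear_combination h1
      rw [← Complex.ofReal_sum, Complex.ofReal_eq_zero,
        Finset.sum_eq_zero_iff_of_nonneg fun _ _ => Complex.normSq_nonneg _] at h3
      exact Complex.normSq_eq_zero.1 (h3 g (by simp [hg]))
    · intro h2
      rw [Finset.sum_eq_zero (s := Finset.univ.filter fun y : G => y ∉ N)
        (fun y hy => by rw [h2 y (Finset.mem_filter.1 hy).2, zero_mul]), add_zero] at h1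
      exact_mod_cast mul_right_cancel₀ (card_subgroup_ne_zero N) h1
  · rw [hA]
    refine and_congr_right fun hinv => ?_
    have h1 := sum_mult_sq_of_invariant θ hinv
    rw [← Finset.add_sum_erase _ _ (Finset.mem_univ χ), ← hm] at h1
    constructor
    · intro h2 ψ hψ
      by_contra hne
      have h3 : ∑ x ∈ Finset.univ.erase χ, mult (fun n : N => (x : G → ℂ) n) θ ^ 2 = 0 := by omega
      exact hψ (pow_eq_zero_iff two_ne_zero |>.1
        (Finset.sum_eq_zero_iff.1 h3 ψ (Finset.mem_erase.2 ⟨hne, Finset.mem_univ ψ⟩)))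
    · intro h2
      rw [Finset.sum_eq_zero (s := Finset.univ.erase χ) (fun x hx => by
        rw [show mult (fun n : N => (x : G → ℂ) n) θ = 0 from
          not_not.1 fun h3 => Finset.ne_of_mem_erase hx (h2 x h3)]
        rfl), add_zero] at h1
      exact h1

end CfsgLib.Chars.Induced
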